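import Cfsg.Agent.H968.TwoM22Deg
import Cfsg.Agent.OrdDiv.Table
import Cfsg.Agent.S2062

/-!
# HUB H1, part P11: the row `M22` (helper968)

`row` : a two-transitive action with socle `M22` has degree 22.
-/

set_option autoImplicit false

namespace Cfsg.Agent.H968.TwoM22

open Cfsg Subgroup MulAction Cfsg.Agent.H384.TwoTrans Cfsg.Agent.H970.StabNum Cfsg.Agent.H970.TwoSpor
open Cfsg.Agent.H968.TwoTool

universe u v

variable {G : Type u} {Ω : Type v} [Group G] [MulAction G Ω] {T : Subgroup G}

def dat : List (ℕ × ℕ × ℕ) := [(11, 1, 5), (7, 1, 3)]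
def ps : List ℕ := [2, 3, 5, 7, 11]
def tbl : List ℕ := [60, 360, 2520, 20160, 168, 504, 660, 7920, 443520]
def fct : List (ℕ × ℕ) := [(2, 7), (3, 2), (5, 1), (7, 1), (11, 1)]

theorem valid_fct : OrdDiv.valid fct 443520 = true := by decide +kernel
theorem tbl_ok : ((OrdDiv.cands fct 443520).all fun g => tbl.contains (OrdDiv.ordN g)) = true := by decide +kernel
theorem surv : survives 443520 2 [1, 2] fct dat ps tbl = [385, 22, 56] := by decide +kernel

theorem data (hS : ∀ (X : Type u) [Group X] [Finite X] [IsSimpleGroup X], Cfsg.IsKnownSimple' X)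
    {K : Type u} [Group K] (H : Three K) : Data K dat ps tbl := by
  have hfin : Finite K := Nat.finite_of_card_ne_zero (by rw [H.card]; norm_num)
  refine ⟨hfin, by rw [H.card]; norm_num, ?_, ?_, ?_, ?_⟩
  · intro x hx
    simp only [dat, List.mem_cons, List.not_mem_nil, or_false] at hx
    rcases hx with rfl | rfl <;> rw [H.card] <;> norm_num
  · intro x hx P hP
    simp only [dat, List.mem_cons, List.not_mem_nil, or_false] at hx
    rcases hx with rfl | rfl
    · have : Fact (Nat.Prime 11) := ⟨by norm_num⟩
      obtain ⟨x, hx, hc⟩ := H.eleven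
      have h := cent_of (p := 11) (by rw [H.card]; norm_num) hx hc hP
      rw [H.card] at h
      exact h
    · have : Fact (Nat.Prime 7) := ⟨by norm_num⟩
      obtain ⟨x, hx, hc⟩ := H.seven
      have h := cent_of (p := 7) (by rw [H.card]; norm_num) hx hc hP
      rw [H.card] at h
      exact h
  · intro r hr
    simp only [ps, List.mem_cons, List.not_mem_nil, or_false] at hr
    rcases hr with rfl | rfl | rfl | rfl | rfl <;> norm_num
  · intro X _ _ hX hna hd
    rw [H.card] at hd
    exact mem_tbl Cfsg.Agent.OrdDiv.table hS valid_fct tbl_ok X hX hna hd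

/-- **the row `M22`** -/
theorem row (hS : ∀ (X : Type u) [Group X] [Finite X] [IsSimpleGroup X], Cfsg.IsKnownSimple' X)
    (A : AS G Ω T) (h : Cfsg.Spor.IsoM22 ↥T) : Known2 ↥T (Nat.card Ω) := by
  obtain ⟨e⟩ := h
  have H : Three ↥T := three.congr e.symm
  have := A.finT
  have := A.finΩ
  have hidx : T.index ∣ 2 := by
    have h1 := A.index_dvd_out e
    rwa [S2062.result] at h1
  have hG : Nat.card G ∣ 2 * Nat.card ↥T := by
    rw [← Subgroup.index_mul_card T]
    exact Nat.mul_dvd_mul hidx dvd_rfl
  have hmem := mem_survives A H.card hG (js := [1, 2]) (fun j hj => by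
    rcases (Nat.dvd_prime Nat.prime_two).1 hj with rfl | rfl <;> simp) valid_fct (data hS H)
  rw [surv] at hmem
  simp only [List.mem_cons, List.not_mem_nil, or_false] at hmem
  rcases hmem with hn | hn | hn
  · -- degree 385
    exfalso
    refine no385 H hn fun a b hab => ?_
    obtain ⟨j, hj, -, h2⟩ := exists_two_point A hG a b hab
    have h3 := A.card_mul a
    rw [hn, H.card] at h3
    rw [hn] at h2
    have h4 : Nat.card (stabilizer ↥T a) = 1152 := by omega
    rw [h4] at h2
    rcases (Nat.dvd_prime Nat.prime_two).1 hj with rfl | rfl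
    · left; omega
    · right; omega
  · rw [hn]
    exact .m22 ⟨e⟩
  · -- degree 56
    exfalso
    refine no56 H hn fun a b hab => ?_
    obtain ⟨j, hj, hj', h2⟩ := exists_two_point A hG a b hab
    have h3 := A.card_mul a
    rw [hn, H.card] at h3
    rw [hn] at h2 hj'
    have h4 : Nat.card (stabilizer ↥T a) = 7920 := by omega
    rw [h4] at h2
    rcases (Nat.dvd_prime Nat.prime_two).1 hj with rfl | rfl
    · omega
    · omega

end Cfsg.Agent.H968.TwoM22
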