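import Cfsg.Agent.H968.TwoTool
import Cfsg.Agent.H729.M24Deg
import Cfsg.Prelude.Def_Spor_Mathieu
import Cfsg.Agent.OrdDiv.Table
import Cfsg.Agent.S2063

/-!
# HUB H1, part P11: the row `M23` (helper968)

`row` : a two-transitive action with socle `M23` has degree 23. The degree 253 is excluded with an element of order 15.
-/

set_option autoImplicit false

namespace Cfsg.Agent.H968.TwoM23

open Cfsg Subgroup MulAction Cfsg.Agent.H384.TwoTrans Cfsg.Agent.H970.StabNum Cfsg.Agent.H970.TwoSpor
open Cfsg.Agent.SporadicA.GolayBase Cfsg.Agent.SporadicA.GolayPerm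
open Cfsg.Agent.SporadicStructure.M24El Cfsg.Agent.H729.Trans Cfsg.Agent.H729.MData Cfsg.Agent.H729.Count
open Cfsg.Agent.H729.M24Deg Cfsg.Agent.H968.TwoTool

universe u v

/-! ### the facts -/

/-- The facts about `M23` which are used. -/
structure Five (K : Type*) [Group K] : Prop where
  card : Nat.card K = 10200960
  five : ∃ y z : K, orderOf y = 5 ∧ orderOf z = 3 ∧ y * z = z * y ∧ Nat.card (centralizer ({y} : Set K)) ≤ 60
  tt : ∃ x : K, orderOf x = 23 ∧ Nat.card (centralizer ({x} : Set K)) ≤ 23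
  eleven : ∃ x : K, orderOf x = 11 ∧ Nat.card (centralizer ({x} : Set K)) ≤ 11

theorem Five.congr {K L : Type*} [Group K] [Group L] (e : K ≃* L) (h : Five K) : Five L := by
  obtain ⟨h1, ⟨y, z, a1, a2, a3, a4⟩, ⟨x, b1, b2⟩, w, c1, c2⟩ := h
  exact ⟨by rw [← Nat.card_congr e.toEquiv, h1], ⟨e y, e z, by rw [MulEquiv.orderOf_eq, a1],
    by rw [MulEquiv.orderOf_eq, a2], by rw [← map_mul, a3, map_mul], by rw [← card_cent_congr e]; exact a4⟩,
    ⟨e x, by rw [MulEquiv.orderOf_eq, b1], by rw [← card_cent_congr e]; exact b2⟩,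
    e w, by rw [MulEquiv.orderOf_eq, c1], by rw [← card_cent_congr e]; exact c2⟩

/-- The inclusion of `M23` in `M24`. -/
def inc : Spor.M23 →* M24 where
  toFun g := ⟨(g : Equiv.Perm GolayPt), g.2.1⟩
  map_one' := rfl
  map_mul' _ _ := rfl

theorem inc_injective : Function.Injective inc := by
  intro a b h
  exact Subtype.ext (congrArg (fun g : M24 => (g : Equiv.Perm GolayPt)) h)

theorem exists_el {c : ℕ} (hc : ok c = true) (h1 : papp c 23 = 23) : ∃ x : Spor.M23, inc x = el c := by
  have h3 : (el c : Equiv.Perm GolayPt) none = none := by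
    have h := el_smul_pt hc (none : GolayPt)
    have e : idx none = 23 := rfl
    rw [e, h1] at h
    exact h
  exact ⟨⟨(el c : Equiv.Perm GolayPt), (el c).2, h3⟩, rfl⟩

theorem orderOf_inc (x : Spor.M23) : orderOf (inc x) = orderOf x := orderOf_injective inc inc_injective x

theorem len23 : (tl 23 c23 c23 wd23 st23).length = 23 := by decide +kernel

/-- an element of order 3 commuting with `c5` -/
def cu : ℕ := 984004400463187162086834820161713539
theorem ok_u : ok cu = true := by decide +kernel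
theorem ou : orderOf (el cu) = 3 :=
  orderOf_el p3 ok_u (by decide +kernel) 1 (by norm_num) (by decide +kernel)
theorem comm_u : Nat.beq (pcomp c5 cu) (pcomp cu c5) = true := by decide +kernel

theorem five : Five Spor.M23 := by
  obtain ⟨y, hy⟩ := exists_el (ok_of_pre pre5) (by decide +kernel)
  obtain ⟨z, hz⟩ := exists_el ok_u (by decide +kernel)
  obtain ⟨x, hx⟩ := exists_el (ok_of_pre pre23) (by decide +kernel)
  obtain ⟨w, hw⟩ := exists_el (ok_of_pre pre11) (by decide +kernel)
  refine ⟨NotCT.Orders.m23 ⟨MulEquiv.refl _⟩, ⟨y, z, by rw [← orderOf_inc, hy, o5], by rw [← orderOf_inc, hz, ou], ?_, ?_⟩,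
    ⟨x, by rw [← orderOf_inc, hx, o23], ?_⟩, w, by rw [← orderOf_inc, hw, o11], ?_⟩
  · apply inc_injective
    rw [map_mul, map_mul, hy, hz, ← el_pcomp (ok_of_pre pre5) ok_u, ← el_pcomp ok_u (ok_of_pre pre5),
      Nat.eq_of_beq_eq_true comm_u]
  · have h := card_cent_le inc inc_injective pre5 hy (fun g => st_triv (by decide +kernel) (inc g))
    rwa [len5] at h
  · have h := card_cent_le inc inc_injective pre23 hx (fun g => st_triv (by decide +kernel) (inc g))
    rwa [len23] at h
  · have h := card_cent_le inc inc_injective pre11 hw (fun g => st_triv (by decide +kernel) (inc g))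
    rwa [len11] at h

/-! ### the degree 253 -/

theorem no253 {T : Type*} [Group T] {Ω : Type*} [MulAction T Ω] [Finite T] [Finite Ω] (H : Five T)
    (hn : Nat.card Ω = 253)
    (h160 : ∀ a b : Ω, a ≠ b → Nat.card ↥(stabilizer T a ⊓ stabilizer T b) = 160) : False := by
  have hp3 : Fact (Nat.Prime 3) := ⟨Nat.prime_three⟩
  have hp5 : Fact (Nat.Prime 5) := ⟨Nat.prime_five⟩
  obtain ⟨y, z, hy, hz, hyz, hC⟩ := H.five
  have hy5 : y ^ 5 = 1 := by rw [← hy]; exact pow_orderOf_eq_one y
  have hz3 : z ^ 3 = 1 := by rw [← hz]; exact pow_orderOf_eq_one z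
  -- `z` has exactly one fixed point
  have hz1 : ∀ a b : Ω, z • a = a → z • b = b → a = b := by
    intro a b ha hb
    by_contra hab
    have h1 : orderOf (⟨z, Subgroup.mem_inf.2 ⟨mem_stabilizer_iff.2 ha, mem_stabilizer_iff.2 hb⟩⟩ :
        ↥(stabilizer T a ⊓ stabilizer T b)) ∣ Nat.card ↥(stabilizer T a ⊓ stabilizer T b) := orderOf_dvd_natCard _
    rw [Subgroup.orderOf_mk, hz, h160 a b hab] at h1
    norm_num at h1
  obtain ⟨c, hc⟩ : ∃ c : Ω, z • c = c := by
    have h1 := fix_modEq (Ω := Ω) hz3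
    rw [hn] at h1
    have h2 : Nat.card (fixedBy Ω z) ≠ 0 := by
      intro h0
      rw [h0] at h1
      exact absurd h1 (by decide)
    have h3 : Nonempty (fixedBy Ω z) := by
      by_contra hcon
      rw [not_nonempty_iff] at hcon
      exact h2 Nat.card_of_isEmpty
    obtain ⟨c⟩ := h3
    exact ⟨c.1, c.2⟩
  have hyc : y • c = c := by
    apply hz1 _ _ _ hc
    rw [← mul_smul, ← hyz, mul_smul, hc]
  -- the action of `z` on the fixed points of `y`
  have hcomm : ∀ g ∈ zpowers z, g * y = y * g := by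
    intro g hg
    have h1 : Commute y z := hyz
    obtain ⟨k, rfl⟩ := hg
    exact ((h1.zpow_right k).eq).symm
  let act : MulAction (zpowers z) (fixedBy Ω y) :=
    { smul := fun g a => ⟨(g : T) • (a : Ω), by
        have h := a.2
        rw [mem_fixedBy] at h ⊢
        rw [← mul_smul, ← hcomm g g.2, mul_smul, h]⟩
      one_smul := fun a => Subtype.ext (one_smul T (a : Ω))
      mul_smul := fun g h a => Subtype.ext (mul_smul (g : T) (h : T) (a : Ω)) }
  have h3 : Nat.card (fixedBy Ω y) ≡ 1 [MOD 3] := by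
    have h1 := fix_modEq (Ω := fixedBy Ω y) (x := (⟨z, mem_zpowers z⟩ : zpowers z)) (p := 3)
      (Subtype.ext hz3)
    have h2 : Nat.card (fixedBy (fixedBy Ω y) (⟨z, mem_zpowers z⟩ : zpowers z)) = 1 := by
      rw [Nat.card_eq_one_iff_unique]
      refine ⟨⟨fun a b => ?_⟩, ⟨⟨⟨c, hyc⟩, Subtype.ext hc⟩⟩⟩
      apply Subtype.ext
      apply Subtype.ext
      exact hz1 _ _ (congrArg Subtype.val a.2) (congrArg Subtype.val b.2)
    rwa [h2] at h1
  have h5 : 253 ≡ Nat.card (fixedBy Ω y) [MOD 5] := by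
    have h1 := fix_modEq (Ω := Ω) hy5
    rwa [hn] at h1
  have hle := count_le (Ω := Ω) y (m := 160) fun a b hab => by
    rw [← h160 a b hab]
    refine Nat.card_le_card_of_injective (fun w => (⟨w.1, Subgroup.mem_inf.2
      ⟨mem_stabilizer_iff.2 w.2.2.1, mem_stabilizer_iff.2 w.2.2.2⟩⟩ : ↥(stabilizer T a ⊓ stabilizer T b))) ?_
    intro v w hvw
    exact Subtype.ext (congrArg (fun t : ↥(stabilizer T a ⊓ stabilizer T b) => (t : T)) hvw)
  rw [H.card, hn] at hle
  set f := Nat.card (fixedBy Ω y) with hf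
  have h13 : 13 ≤ f := by
    have h6 : f % 3 = 1 := h3
    have h7 : 253 % 5 = f % 5 := h5
    omega
  have h8 : 13 * f ≤ f * f := Nat.mul_le_mul_right f h13
  have h9 : (253 * 253 - 253) * (160 * Nat.card (centralizer ({y} : Set T))) ≤ (253 * 253 - 253) * (160 * 60) :=
    Nat.mul_le_mul_left _ (Nat.mul_le_mul_left _ hC)
  have h10 := hle.trans h9
  omega

/-! ### the row -/

variable {G : Type u} {Ω : Type v} [Group G] [MulAction G Ω] {T : Subgroup G}

def dat : List (ℕ × ℕ × ℕ) := [(23, 1, 11), (11, 1, 5)]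
def ps : List ℕ := [2, 3, 5, 7, 11, 23]
def tbl : List ℕ := [60, 360, 2520, 20160, 168, 504, 660, 6072, 7920, 443520, 10200960]
def fct : List (ℕ × ℕ) := [(2, 7), (3, 2), (5, 1), (7, 1), (11, 1), (23, 1)]

theorem valid_fct : OrdDiv.valid fct 10200960 = true := by decide +kernel
theorem tbl_ok : ((OrdDiv.cands fct 10200960).all fun g => tbl.contains (OrdDiv.ordN g)) = true := by decide +kernel
theorem surv : survives 10200960 1 [1] fct dat ps tbl = [23, 253] := by decide +kernel

theorem data (hS : ∀ (X : Type u) [Group X] [Finite X] [IsSimpleGroup X], Cfsg.IsKnownSimple' X)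
    {K : Type u} [Group K] (H : Five K) : Data K dat ps tbl := by
  have hfin : Finite K := Nat.finite_of_card_ne_zero (by rw [H.card]; norm_num)
  refine ⟨hfin, by rw [H.card]; norm_num, ?_, ?_, ?_, ?_⟩
  · intro x hx
    simp only [dat, List.mem_cons, List.not_mem_nil, or_false] at hx
    rcases hx with rfl | rfl <;> rw [H.card] <;> norm_num
  · intro x hx P hP
    simp only [dat, List.mem_cons, List.not_mem_nil, or_false] at hx
    rcases hx with rfl | rfl
    · have : Fact (Nat.Prime 23) := ⟨by norm_num⟩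
      obtain ⟨x, hx, hc⟩ := H.tt
      have h := cent_of (p := 23) (by rw [H.card]; norm_num) hx hc hP
      rw [H.card] at h
      exact h
    · have : Fact (Nat.Prime 11) := ⟨by norm_num⟩
      obtain ⟨x, hx, hc⟩ := H.eleven
      have h := cent_of (p := 11) (by rw [H.card]; norm_num) hx hc hP
      rw [H.card] at h
      exact h
  · intro r hr
    simp only [ps, List.mem_cons, List.not_mem_nil, or_false] at hr
    rcases hr with rfl | rfl | rfl | rfl | rfl | rfl <;> norm_num
  · intro X _ _ hX hna hd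
    rw [H.card] at hd
    exact mem_tbl Cfsg.Agent.OrdDiv.table hS valid_fct tbl_ok X hX hna hd

/-- **the row `M23`** -/
theorem row (hS : ∀ (X : Type u) [Group X] [Finite X] [IsSimpleGroup X], Cfsg.IsKnownSimple' X)
    (A : AS G Ω T) (h : Cfsg.Spor.IsoM23 ↥T) : Known2 ↥T (Nat.card Ω) := by
  obtain ⟨e⟩ := h
  have H : Five ↥T := five.congr e.symm
  have := A.finT
  have := A.finΩ
  have hidx : T.index ∣ 1 := by
    have h1 := A.index_dvd_out e
    rwa [S2063.result] at h1
  have hG : Nat.card G ∣ 1 * Nat.card ↥T := by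
    rw [← Subgroup.index_mul_card T]
    exact Nat.mul_dvd_mul hidx dvd_rfl
  have hmem := mem_survives A H.card hG (js := [1]) (fun j hj => by
    rw [Nat.dvd_one.1 hj]; simp) valid_fct (data hS H)
  rw [surv] at hmem
  simp only [List.mem_cons, List.not_mem_nil, or_false] at hmem
  rcases hmem with hn | hn
  · rw [hn]
    exact .m23 ⟨e⟩
  · -- degree 253
    exfalso
    refine no253 H hn fun a b hab => ?_
    obtain ⟨j, hj, -, h2⟩ := exists_two_point A hG a b hab
    have h3 := A.card_mul a
    rw [hn, H.card] at h3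
    rw [hn] at h2
    have h4 : Nat.card (stabilizer ↥T a) = 40320 := by omega
    rw [h4, Nat.dvd_one.1 hj] at h2
    omega

end Cfsg.Agent.H968.TwoM23
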