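import Mathlib

/-!
# Elements of `p`-power order in linear groups in characteristic `p`, and lifting (helper968)
-/

set_option autoImplicit false

namespace Cfsg.Agent.H968.TwoLin

/-- An invertible `N × N` matrix of `p`-power order in characteristic `p` has order dividing `p ^ k` as soon as
`N ≤ p ^ k`. -/
theorem matrix_pow_eq_one {F : Type*} [Field F] {p : ℕ} [Fact p.Prime] [CharP F p] {N : ℕ}
    (A : Matrix (Fin N) (Fin N) F) {m k : ℕ} (hA : A ^ p ^ m = 1) (hk : N ≤ p ^ k) : A ^ p ^ k = 1 := by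
  rcases Nat.eq_zero_or_pos N with rfl | hN
  · exact Subsingleton.elim _ _
  have : Nonempty (Fin N) := ⟨⟨0, hN⟩⟩
  have h0 : ∀ j, (A - 1) ^ p ^ j = A ^ p ^ j - 1 := by
    intro j
    rw [sub_pow_char_pow_of_commute p j (Commute.one_right A), one_pow]
  have h1 : (A - 1) ^ p ^ m = 0 := by
    rw [h0, hA, sub_self]
  set f : Module.End F (Fin N → F) := Matrix.toLin' (A - 1) with hf
  have h2 : f ^ p ^ m = 0 := by
    rw [hf, ← Matrix.toLin'_pow, h1, map_zero]
  have h3 : f ^ N = 0 := by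
    have h4 := Module.End.ker_pow_le_ker_pow_finrank f (p ^ m)
    rw [h2] at h4
    simp only [Module.finrank_fin_fun] at h4
    refine LinearMap.ext fun v => ?_
    have : v ∈ LinearMap.ker (f ^ N) := h4 (by simp)
    simpa using this
  have h5 : (A - 1) ^ N = 0 := by
    apply Matrix.toLin'.injective
    rw [Matrix.toLin'_pow, map_zero]
    exact h3
  have h6 : (A - 1) ^ p ^ k = 0 := by
    obtain ⟨c, hc⟩ := Nat.exists_eq_add_of_le hk
    rw [hc, pow_add, h5, zero_mul]
  rw [h0] at h6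
  exact sub_eq_zero.1 h6

/-- Lifting of an element of `p`-power order through a surjection with kernel of order prime to `p`. -/
theorem exists_lift {H G : Type*} [Group H] [Finite H] [Group G] (f : H →* G) (hf : Function.Surjective f) {p m : ℕ}
    (hp : p.Prime) (hk : ¬ p ∣ Nat.card f.ker) (c : G) (hc : c ^ p ^ m = 1) : ∃ h : H, f h = c ∧ h ^ p ^ m = 1 := by
  obtain ⟨h0, rfl⟩ := hf c
  have hcop : Nat.Coprime (Nat.card f.ker) (p ^ m) :=
    (Nat.Coprime.pow_right m ((Nat.Prime.coprime_iff_not_dvd hp).2 hk).symm)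
  obtain ⟨s, hs1, hs2⟩ := Nat.chineseRemainder hcop 0 1
  refine ⟨h0 ^ s, ?_, ?_⟩
  · rw [map_pow]
    conv_rhs => rw [← pow_one (f h0)]
    rw [pow_eq_pow_iff_modEq]
    exact hs2.of_dvd (orderOf_dvd_of_pow_eq_one hc)
  · rw [← pow_mul, mul_comm, pow_mul]
    have h1 : h0 ^ p ^ m ∈ f.ker := by rw [MonoidHom.mem_ker, map_pow, hc]
    obtain ⟨d, hd⟩ := (Nat.modEq_zero_iff_dvd.1 hs1)
    rw [hd, pow_mul]
    have h2 : (⟨_, h1⟩ : f.ker) ^ Nat.card f.ker = 1 := pow_card_eq_one'
    have h3 := congrArg Subtype.val h2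
    simp only [SubmonoidClass.coe_pow, OneMemClass.coe_one] at h3
    rw [h3, one_pow]

end Cfsg.Agent.H968.TwoLin
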