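import Cfsg.Agent.H968.TwoBasic
import Cfsg.Agent.H968.TwoPerm
import Cfsg.Agent.H968.TwoLin

/-!
# 2-transitive simple groups with a cyclic two-point stabiliser: elementary exclusions (helper968)
-/

set_option autoImplicit false

namespace Cfsg.Agent.H968.TwoCyc

open MulAction

/-- `G` is a finite non-abelian simple group, faithful and 2-transitive on `Ω`, with a cyclic two-point stabiliser. -/
structure Cyc (G Ω : Type*) [Group G] [MulAction G Ω] (a b : Ω) : Prop where
  finG : Finite G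
  finΩ : Finite Ω
  faithful : FaithfulSMul G Ω
  simple : IsSimpleGroup G
  nonab : ¬ IsMulCommutative G
  two : IsMultiplyPretransitive G Ω 2
  ne : a ≠ b
  cyc : IsCyclic ↥(stabilizer G a ⊓ stabilizer G b)

variable {G Ω : Type*} [Group G] [MulAction G Ω] {a b : Ω}

theorem Cyc.card (A : Cyc G Ω a b) :
    Nat.card G = Nat.card Ω * (Nat.card Ω - 1) * Nat.card ↥(stabilizer G a ⊓ stabilizer G b) := by
  have := A.finΩ
  exact TwoBasic.card_eq A.two A.ne

theorem Cyc.exists_gen (A : Cyc G Ω a b) :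
    ∃ c : G, c • a = a ∧ c • b = b ∧ orderOf c = Nat.card ↥(stabilizer G a ⊓ stabilizer G b) := by
  have := A.cyc
  obtain ⟨c, hc⟩ := IsCyclic.exists_ofOrder_eq_natCard (α := ↥(stabilizer G a ⊓ stabilizer G b))
  refine ⟨c, ?_, ?_, ?_⟩
  · exact (Subgroup.mem_inf.1 c.2).1
  · exact (Subgroup.mem_inf.1 c.2).2
  · rw [Subgroup.orderOf_coe]; exact hc

/-- An element of every order dividing the order of the two-point stabiliser. -/
theorem Cyc.exists_order (A : Cyc G Ω a b) {k : ℕ} (hk : k ∣ Nat.card ↥(stabilizer G a ⊓ stabilizer G b)) :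
    ∃ c : G, c • a = a ∧ c • b = b ∧ orderOf c = k := by
  have := A.finG
  obtain ⟨c, ha, hb, hc⟩ := A.exists_gen
  obtain ⟨l, hl⟩ := hk
  have hpos : 0 < Nat.card ↥(stabilizer G a ⊓ stabilizer G b) := Nat.card_pos
  have hl0 : l ≠ 0 := by rintro rfl; omega
  refine ⟨c ^ l, ?_, ?_, ?_⟩
  · exact pow_mem (show c ∈ stabilizer G a from ha) l
  · exact pow_mem (show c ∈ stabilizer G b from hb) l
  · rw [orderOf_pow, hc, hl, Nat.gcd_mul_left_left]
    exact Nat.mul_div_cancel _ (Nat.pos_of_ne_zero hl0)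

theorem Cyc.commute (A : Cyc G Ω a b) {x y : G} (hxa : x • a = a) (hxb : x • b = b) (hya : y • a = a)
    (hyb : y • b = b) : x * y = y * x := by
  have := A.cyc
  have hc := IsCyclic.isMulCommutative (α := ↥(stabilizer G a ⊓ stabilizer G b))
  have h := hc.is_comm.comm ⟨x, Subgroup.mem_inf.2 ⟨hxa, hxb⟩⟩ ⟨y, Subgroup.mem_inf.2 ⟨hya, hyb⟩⟩
  exact congrArg Subtype.val h

theorem Cyc.inj (A : Cyc G Ω a b) : Function.Injective (toPermHom G Ω) := by
  have := A.faithful
  exact toPerm_injective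

theorem Cyc.orderOf (A : Cyc G Ω a b) (g : G) : orderOf (toPermHom G Ω g) = orderOf g :=
  orderOf_injective _ A.inj g

theorem Cyc.even [Fintype Ω] [DecidableEq Ω] (A : Cyc G Ω a b) (g : G) :
    Equiv.Perm.sign (toPermHom G Ω g) = 1 := by
  have := A.simple
  set f : G →* ℤˣ := Equiv.Perm.sign.comp (toPermHom G Ω) with hf
  rcases (inferInstance : f.ker.Normal).eq_bot_or_eq_top with h | h
  · exfalso
    apply A.nonab
    have hinj : Function.Injective f := (MonoidHom.ker_eq_bot_iff f).1 h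
    exact ⟨⟨fun x y => hinj (by rw [map_mul, map_mul, mul_comm])⟩⟩
  · have : g ∈ f.ker := by rw [h]; trivial
    exact this

/-- The number of moved points of an element fixing `a` and `b`. -/
theorem Cyc.support_le [Fintype Ω] [DecidableEq Ω] (A : Cyc G Ω a b) {g : G} (ha : g • a = a) (hb : g • b = b) :
    (toPermHom G Ω g).support.card + 2 ≤ Nat.card Ω := by
  rw [Nat.card_eq_fintype_card]
  exact TwoPerm.support_le_of_fix A.ne ha hb

theorem Cyc.pow_le (A : Cyc G Ω a b) {r e : ℕ} (hr : r.Prime) (he : e ≠ 0)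
    (h : r ^ e ∣ Nat.card ↥(stabilizer G a ⊓ stabilizer G b)) : r ^ e + 2 ≤ Nat.card Ω := by
  classical
  have := A.finΩ
  have := Fintype.ofFinite Ω
  obtain ⟨c, ha, hb, hc⟩ := A.exists_order h
  have h1 := TwoPerm.pow_le_support hr he (toPermHom G Ω c) (by rw [A.orderOf, hc])
  have h2 := A.support_le ha hb
  omega

/-- In a finite cyclic subgroup `C`, the elements `y` with `y ^ |X| = 1` lie in `X ≤ C`. -/
theorem cyc_mem [Finite G] {C X : Subgroup G} (hC : IsCyclic ↥C) (hX : X ≤ C) {y : G} (hy : y ∈ C)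
    (h : y ^ Nat.card X = 1) : y ∈ X := by
  classical
  have := Fintype.ofFinite ↥C
  have h1 := IsCyclic.card_pow_eq_one_le (α := ↥C) (n := Nat.card X) Nat.card_pos
  set S : Finset ↥C := Finset.univ.filter (fun z => z ^ Nat.card X = 1) with hS
  set T : Finset ↥C := Finset.univ.filter (fun z => (z : G) ∈ X) with hT
  have hTS : T ⊆ S := by
    intro z hz
    rw [hT, Finset.mem_filter] at hz
    rw [hS, Finset.mem_filter]
    refine ⟨Finset.mem_univ _, Subtype.ext ?_⟩
    have h2 : (⟨z, hz.2⟩ : X) ^ Nat.card X = 1 := pow_card_eq_one'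
    have h3 : (z : G) ^ Nat.card X = 1 := congrArg Subtype.val h2
    rw [SubmonoidClass.coe_pow, h3]
    rfl
  have hcardT : T.card = Nat.card X := by
    rw [← Nat.card_eq_finsetCard]
    refine Nat.card_congr
      { toFun := fun z => ⟨(z : ↥C), ?_⟩
        invFun := fun z => ⟨⟨z, hX z.2⟩, ?_⟩
        left_inv := fun z => rfl
        right_inv := fun z => rfl }
    · exact (Finset.mem_filter.1 z.2).2
    · rw [hT, Finset.mem_filter]
      exact ⟨Finset.mem_univ _, z.2⟩
  have hST : T = S := Finset.eq_of_subset_of_card_le hTS (by rw [hcardT]; exact h1)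
  have : (⟨y, hy⟩ : ↥C) ∈ T := by
    rw [hST, hS, Finset.mem_filter]
    exact ⟨Finset.mem_univ _, Subtype.ext (by simpa using h)⟩
  rw [hT, Finset.mem_filter] at this
  exact this.2

/-- The count of the fixed points of a subgroup of the two-point stabiliser. -/
theorem Cyc.fix_count (A : Cyc G Ω a b) (X : Subgroup G) (hX : X ≤ stabilizer G a ⊓ stabilizer G b) :
    (Subgroup.normalizer (X : Set G)).index *
      (Nat.card (TwoBasic.Fx X Ω) * (Nat.card (TwoBasic.Fx X Ω) - 1)) = Nat.card Ω * (Nat.card Ω - 1) := by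
  have := A.finG
  have := A.finΩ
  refine TwoBasic.fix_count A.two A.ne X hX fun g hg x hx => ?_
  refine cyc_mem A.cyc hX (hg x hx) ?_
  have h2 : (⟨x, hx⟩ : X) ^ Nat.card X = 1 := pow_card_eq_one'
  have h3 := congrArg Subtype.val h2
  simp only [SubmonoidClass.coe_pow, OneMemClass.coe_one] at h3
  rw [conj_pow, h3, mul_one, mul_inv_cancel]

/-- The number of fixed points of an `r`-subgroup of the two-point stabiliser. -/
theorem Cyc.fix_modEq (A : Cyc G Ω a b) {r e : ℕ} (hr : r.Prime) {X : Subgroup G} (hX : Nat.card X = r ^ e) :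
    Nat.card Ω ≡ Nat.card (TwoBasic.Fx X Ω) [MOD r] := by
  have := A.finΩ
  have hf : Fact r.Prime := ⟨hr⟩
  have h := (IsPGroup.of_card hX).card_modEq_card_fixedPoints Ω
  have h2 : Nat.card (fixedPoints X Ω) = Nat.card (TwoBasic.Fx X Ω) :=
    Nat.card_congr (Equiv.subtypeEquivRight fun x =>
      ⟨fun h g hg => h ⟨g, hg⟩, fun h g => h g g.2⟩)
  rwa [h2] at h

theorem Cyc.fix_lt (A : Cyc G Ω a b) {X : Subgroup G} (hX : X ≠ ⊥) : Nat.card (TwoBasic.Fx X Ω) < Nat.card Ω := by
  have := A.finΩ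
  have := A.faithful
  refine lt_of_le_of_ne (Nat.card_le_card_of_injective (fun x : TwoBasic.Fx X Ω => x.1) Subtype.val_injective) ?_
  intro h
  apply hX
  rw [eq_bot_iff]
  intro g hg
  rw [Subgroup.mem_bot]
  apply FaithfulSMul.eq_of_smul_eq_smul (α := Ω)
  intro x
  have hinj : Function.Injective (fun x : TwoBasic.Fx X Ω => x.1) := Subtype.val_injective
  have hbij := (Nat.bijective_iff_injective_and_card _).2 ⟨hinj, h⟩
  obtain ⟨y, rfl⟩ := hbij.2 x
  rw [one_smul]
  exact y.2 g hg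

theorem Cyc.two_le_fix (A : Cyc G Ω a b) {X : Subgroup G} (hX : X ≤ stabilizer G a ⊓ stabilizer G b) :
    2 ≤ Nat.card (TwoBasic.Fx X Ω) := by
  have := A.finΩ
  have : Nontrivial (TwoBasic.Fx X Ω) :=
    ⟨⟨a, fun g hg => (Subgroup.mem_inf.1 (hX hg)).1⟩, ⟨b, fun g hg => (Subgroup.mem_inf.1 (hX hg)).2⟩,
      fun h => A.ne (congrArg Subtype.val h)⟩
  exact Finite.one_lt_card

/-- The order of `C` from the order of `G` and the degree. -/
theorem Cyc.cardC (A : Cyc G Ω a b) {n k l : ℕ} (hn : Nat.card Ω = n) (hG : Nat.card G = k)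
    (h : n * (n - 1) * l = k) (hk : k ≠ 0) : Nat.card ↥(stabilizer G a ⊓ stabilizer G b) = l := by
  have := A.card
  rw [hn, hG, ← h] at this
  have h0 : n * (n - 1) ≠ 0 := by
    rintro h0
    rw [h0, zero_mul] at h
    exact hk h.symm
  exact (Nat.eq_of_mul_eq_mul_left (Nat.pos_of_ne_zero h0) this).symm

/-- `G` is not the full alternating group when `n ≥ 6`. -/
theorem Cyc.not_alt (A : Cyc G Ω a b) (h6 : 6 ≤ Nat.card Ω) (hG : Nat.card G * 2 = (Nat.card Ω).factorial) : False := by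
  classical
  have := A.finΩ
  have := A.finG
  have := Fintype.ofFinite Ω
  set f := toPermHom G Ω with hf
  have hcard : Nat.card f.range = Nat.card G := Nat.card_congr (MonoidHom.ofInjective A.inj).toEquiv.symm
  have hidx : f.range.index = 2 := by
    have h1 := Subgroup.index_mul_card f.range
    rw [hcard, Nat.card_perm, ← hG, mul_comm] at h1
    exact Nat.eq_of_mul_eq_mul_left Nat.card_pos h1
  have halt := Equiv.Perm.eq_alternatingGroup_of_index_eq_two hidx
  -- four more points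
  have hc : 4 ≤ (({a, b} : Finset Ω)ᶜ).card := by
    rw [Finset.card_compl, Finset.card_pair A.ne, ← Nat.card_eq_fintype_card]
    omega
  obtain ⟨s, hs, hs4⟩ := Finset.exists_subset_card_eq hc
  obtain ⟨x, y, z, w, hxy, hxz, hxw, hyz, hyw, hzw, rfl⟩ := Finset.card_eq_four.1 hs4
  have hmem : ∀ u ∈ ({x, y, z, w} : Finset Ω), u ≠ a ∧ u ≠ b := by
    intro u hu
    have := hs hu
    rw [Finset.mem_compl, Finset.mem_insert, Finset.mem_singleton] at this
    tauto
  obtain ⟨hxa, hxb⟩ := hmem x (by simp)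
  obtain ⟨hya, hyb⟩ := hmem y (by simp)
  obtain ⟨hza, hzb⟩ := hmem z (by simp)
  obtain ⟨hwa, hwb⟩ := hmem w (by simp)
  have k1 : Equiv.swap x y * Equiv.swap y z ∈ f.range := by
    rw [halt, Equiv.Perm.mem_alternatingGroup, Equiv.Perm.sign_mul, Equiv.Perm.sign_swap hxy,
      Equiv.Perm.sign_swap hyz]
    rfl
  have k2 : Equiv.swap y z * Equiv.swap z w ∈ f.range := by
    rw [halt, Equiv.Perm.mem_alternatingGroup, Equiv.Perm.sign_mul, Equiv.Perm.sign_swap hyz,
      Equiv.Perm.sign_swap hzw]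
    rfl
  obtain ⟨g1, hg1⟩ := k1
  obtain ⟨g2, hg2⟩ := k2
  have e1 : ∀ u, g1 • u = (Equiv.swap x y * Equiv.swap y z) u := fun u => by rw [← hg1]; rfl
  have e2 : ∀ u, g2 • u = (Equiv.swap y z * Equiv.swap z w) u := fun u => by rw [← hg2]; rfl
  have hcomm := A.commute (x := g1) (y := g2)
    (by rw [e1, Equiv.Perm.mul_apply, Equiv.swap_apply_of_ne_of_ne hya.symm hza.symm,
      Equiv.swap_apply_of_ne_of_ne hxa.symm hya.symm])
    (by rw [e1, Equiv.Perm.mul_apply, Equiv.swap_apply_of_ne_of_ne hyb.symm hzb.symm,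
      Equiv.swap_apply_of_ne_of_ne hxb.symm hyb.symm])
    (by rw [e2, Equiv.Perm.mul_apply, Equiv.swap_apply_of_ne_of_ne hza.symm hwa.symm,
      Equiv.swap_apply_of_ne_of_ne hya.symm hza.symm])
    (by rw [e2, Equiv.Perm.mul_apply, Equiv.swap_apply_of_ne_of_ne hzb.symm hwb.symm,
      Equiv.swap_apply_of_ne_of_ne hyb.symm hzb.symm])
  -- evaluate both products at `x`
  have h1 : (g1 * g2) • x = y := by
    rw [mul_smul, e2, Equiv.Perm.mul_apply, Equiv.swap_apply_of_ne_of_ne hxz hxw,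
      Equiv.swap_apply_of_ne_of_ne hxy hxz, e1, Equiv.Perm.mul_apply, Equiv.swap_apply_of_ne_of_ne hxy hxz,
      Equiv.swap_apply_left]
  have h2 : (g2 * g1) • x = z := by
    rw [mul_smul, e1, Equiv.Perm.mul_apply, Equiv.swap_apply_of_ne_of_ne hxy hxz, Equiv.swap_apply_left,
      e2, Equiv.Perm.mul_apply, Equiv.swap_apply_of_ne_of_ne hyz hyw, Equiv.swap_apply_left]
  rw [hcomm, h2] at h1
  exact hyz h1.symm

end Cfsg.Agent.H968.TwoCyc
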