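import Cfsg.Agent.H968.TwoCyc
import Cfsg.Agent.H384.TwoTrans
import Cfsg.Agent.NotCT.Orders
import Cfsg.Agent.CpAutHSFive.Row
import Cfsg.Agent.OddHalf.Orders.PSpFi23
import Cfsg.Agent.S0243
import Cfsg.Agent.S0252

/-!
# 2-transitive simple groups with a cyclic two-point stabiliser: the list (helper968)
-/

set_option autoImplicit false

namespace Cfsg.Agent.H968.TwoCyc

open MulAction Cfsg.Agent.H384.TwoTrans

variable {G Ω : Type*} [Group G] [MulAction G Ω] {a b : Ω}

/-! ### Sporadic groups and small cases -/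

theorem Cyc.m11 (A : Cyc G Ω a b) (h : Cfsg.Spor.IsoM11 G) (hn : Nat.card Ω = 11) : False := by
  classical
  have := A.finΩ
  have := Fintype.ofFinite Ω
  have hc := A.cardC (l := 72) hn (NotCT.Orders.m11 h) (by norm_num) (by norm_num)
  obtain ⟨c, ha, hb, ho⟩ := A.exists_gen
  have h1 := TwoPerm.not_72 (toPermHom G Ω c) (by rw [A.orderOf, ho, hc])
  have h2 := A.support_le ha hb
  omega

theorem Cyc.m11' (A : Cyc G Ω a b) (h : Cfsg.Spor.IsoM11 G) (hn : Nat.card Ω = 12) : False := by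
  classical
  have := A.finΩ
  have := Fintype.ofFinite Ω
  have hc := A.cardC (l := 60) hn (NotCT.Orders.m11 h) (by norm_num) (by norm_num)
  obtain ⟨c, ha, hb, ho⟩ := A.exists_gen
  have h1 := TwoPerm.not_60 (toPermHom G Ω c) (by rw [A.orderOf, ho, hc])
  have h2 := A.support_le ha hb
  omega

theorem Cyc.m12 (A : Cyc G Ω a b) (h : Cfsg.Spor.IsoM12 G) (hn : Nat.card Ω = 12) : False := by
  have hc := A.cardC (l := 720) hn (NotCT.Orders.m12 h) (by norm_num) (by norm_num)
  have := A.pow_le (r := 2) (e := 4) Nat.prime_two (by norm_num) (by rw [hc]; norm_num)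
  omega

theorem Cyc.m22 (A : Cyc G Ω a b) (h : Cfsg.Spor.IsoM22 G) (hn : Nat.card Ω = 22) : False := by
  have hc := A.cardC (l := 960) hn (NotCT.Orders.m22 h) (by norm_num) (by norm_num)
  have := A.pow_le (r := 2) (e := 6) Nat.prime_two (by norm_num) (by rw [hc]; norm_num)
  omega

theorem Cyc.m23 (A : Cyc G Ω a b) (h : Cfsg.Spor.IsoM23 G) (hn : Nat.card Ω = 23) : False := by
  have hc := A.cardC (l := 20160) hn (NotCT.Orders.m23 h) (by norm_num) (by norm_num)
  have := A.pow_le (r := 2) (e := 6) Nat.prime_two (by norm_num) (by rw [hc]; norm_num)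
  omega

theorem Cyc.m24 (A : Cyc G Ω a b) (h : Cfsg.Spor.IsoM24 G) (hn : Nat.card Ω = 24) : False := by
  have hc := A.cardC (l := 443520) hn (NotCT.Orders.m24 h) (by norm_num) (by norm_num)
  have := A.pow_le (r := 2) (e := 7) Nat.prime_two (by norm_num) (by rw [hc]; norm_num)
  omega

theorem Cyc.co3 (A : Cyc G Ω a b) (h : Cfsg.Spor.IsoCo3 G) (hn : Nat.card Ω = 276) : False := by
  have hc := A.cardC (l := 6531840) hn (NotCT.Orders.co3 h) (by norm_num) (by norm_num)
  have := A.pow_le (r := 3) (e := 6) Nat.prime_three (by norm_num) (by rw [hc]; norm_num)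
  omega

theorem Cyc.hs (A : Cyc G Ω a b) (h : Cfsg.Spor.IsoHS G) (hn : Nat.card Ω = 176) : False := by
  have hc := A.cardC (l := 1440) hn (NotCT.Orders.hs h) (by norm_num) (by norm_num)
  have := A.finG
  obtain ⟨x, hxa, hxb, hx⟩ := A.exists_order (k := 5) (by rw [hc]; norm_num)
  apply Cfsg.Agent.CpAutHSFive.not_eight h hx
  have h1 : stabilizer G a ⊓ stabilizer G b ≤ Subgroup.centralizer ({x} : Set G) := by
    intro y hy
    rw [Subgroup.mem_centralizer_singleton_iff]
    exact A.commute (Subgroup.mem_inf.1 hy).1 (Subgroup.mem_inf.1 hy).2 hxa hxb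
  exact dvd_trans (by rw [hc]; norm_num) (Subgroup.card_dvd_of_le h1)

theorem Cyc.a7 (A : Cyc G Ω a b) (e : G ≃* ↥(alternatingGroup (Fin 7))) (hn : Nat.card Ω = 15) : False := by
  classical
  have hG : Nat.card G = 2520 := by
    rw [Nat.card_congr e.toEquiv, nat_card_alternatingGroup, Nat.card_fin]
    rfl
  have hc := A.cardC (l := 12) hn hG (by norm_num) (by norm_num)
  obtain ⟨c, ha, hb, ho⟩ := A.exists_gen
  have h1 := TwoPerm.not_12 (Ω := Fin 7) (by simp) (e c : Equiv.Perm (Fin 7))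
    (by rw [Subgroup.orderOf_coe, MulEquiv.orderOf_eq, ho, hc])
  have h2 := (Equiv.Perm.mem_alternatingGroup).1 (e c).2
  rw [h2] at h1
  exact absurd h1 (by decide)

theorem card_psl2 {F : Type*} [Field F] [Fintype F] {q : ℕ} (hq : Fintype.card F = q) :
    Nat.gcd 2 (q - 1) * ((q - 1) * Nat.card (Matrix.ProjectiveSpecialLinearGroup (Fin 2) F)) =
      (q ^ 2 - 1) * (q ^ 2 - q) := by
  have := Cfsg.Agent.S0243.result (F := F) hq 2 le_rfl
  rw [this, Fin.prod_univ_two]
  simp

theorem Cyc.psl2_8 (A : Cyc G Ω a b) {F : Type*} [Field F] [Fintype F] (hF : Fintype.card F = 8)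
    (e : G ≃* Matrix.ProjectiveSpecialLinearGroup (Fin 2) F) (hn : Nat.card Ω = 28) : False := by
  have h1 := card_psl2 hF
  norm_num at h1
  have h2 := A.card
  rw [Nat.card_congr e.toEquiv, hn] at h2
  omega

theorem Cyc.psl2_9 (A : Cyc G Ω a b) {F : Type*} [Field F] [Fintype F] (hF : Fintype.card F = 9)
    (e : G ≃* Matrix.ProjectiveSpecialLinearGroup (Fin 2) F) (hn : Nat.card Ω = 6) : False := by
  have h1 := card_psl2 hF
  norm_num at h1
  refine A.not_alt (by omega) ?_
  rw [Nat.card_congr e.toEquiv, hn]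
  simp only [Nat.factorial]
  omega

theorem Cyc.psl4_2 (A : Cyc G Ω a b) {F : Type*} [Field F] [Fintype F] (hF : Fintype.card F = 2)
    (e : G ≃* Matrix.ProjectiveSpecialLinearGroup (Fin 4) F) (hn : Nat.card Ω = 8) : False := by
  have h1 := Cfsg.Agent.S0243.result (F := F) hF 4 (by norm_num)
  rw [Fin.prod_univ_four] at h1
  norm_num at h1
  refine A.not_alt (by omega) ?_
  rw [Nat.card_congr e.toEquiv, hn]
  simp only [Nat.factorial]
  omega

theorem Cyc.psl2_11 (A : Cyc G Ω a b) {F : Type*} [Field F] [Fintype F] (hF : Fintype.card F = 11)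
    (e : G ≃* Matrix.ProjectiveSpecialLinearGroup (Fin 2) F) (hn : Nat.card Ω = 11) : False := by
  have h1 := card_psl2 hF
  norm_num at h1
  have hG : Nat.card G = 660 := by
    rw [Nat.card_congr e.toEquiv]
    omega
  have hc := A.cardC (l := 6) hn hG (by norm_num) (by norm_num)
  obtain ⟨x, ha, hb, hx⟩ := A.exists_order (k := 2) (by rw [hc]; norm_num)
  have hX : Subgroup.zpowers x ≤ stabilizer G a ⊓ stabilizer G b :=
    (Subgroup.zpowers_le).2 (Subgroup.mem_inf.2 ⟨ha, hb⟩)
  have hX2 : Nat.card (Subgroup.zpowers x) = 2 ^ 1 := by rw [Nat.card_zpowers, hx]; rfl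
  have h2 := A.fix_count _ hX
  have h3 := A.fix_modEq Nat.prime_two hX2
  have h4 := A.fix_lt (X := Subgroup.zpowers x) (by
    rintro h
    rw [h, Subgroup.card_bot] at hX2
    omega)
  have h5 := A.two_le_fix hX
  rw [hn] at h2 h3 h4
  have h6 := Dvd.intro_left _ h2
  have h7 : 11 % 2 = Nat.card (TwoBasic.Fx (Subgroup.zpowers x) Ω) % 2 := h3
  revert h4 h5 h6 h7
  generalize Nat.card (TwoBasic.Fx (Subgroup.zpowers x) Ω) = f
  intro h4 h5 h6 h7
  interval_cases f <;> revert h6 h7 <;> decide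

end Cfsg.Agent.H968.TwoCyc
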