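import Cfsg.Agent.H968.TwoReeC

/-!
# 2-transitive simple groups with a cyclic two-point stabiliser: the conclusion of S2199 from the list (helper968)
-/

set_option autoImplicit false

namespace Cfsg.Agent.H968.TwoCyc

open MulAction Cfsg.Agent.H384.TwoTrans

variable {G Ω : Type*} [Group G] [MulAction G Ω] {a b : Ω}

theorem Cyc.final (A : Cyc G Ω a b) (h : Known2 G (Nat.card Ω)) :
    (∃ (F : Type) (_ : Field F) (_ : Fintype F), 4 ≤ Fintype.card F ∧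
      Nonempty (G ≃* Matrix.ProjectiveSpecialLinearGroup (Fin 2) F) ∧ Nat.card Ω = Fintype.card F + 1) ∨
    (∃ (F : Type) (_ : Field F) (_ : Fintype F) (m : ℕ), 1 ≤ m ∧ Fintype.card F = 2 ^ (2 * m + 1) ∧
      Nonempty (G ≃* ↥(Cfsg.Lie.Sz F (2 ^ (m + 1)))) ∧ Nat.card Ω = Fintype.card F ^ 2 + 1) ∨
    (∃ (F : Type) (_ : Field F) (_ : Fintype F) (q : ℕ), 3 ≤ q ∧ Fintype.card F = q ^ 2 ∧
      Nonempty (G ≃* Cfsg.PSU 3 F q) ∧ Nat.card Ω = q ^ 3 + 1) ∨
    ((∃! t : G, t ∈ stabilizer G a ⊓ stabilizer G b ∧ t ≠ 1 ∧ 2 < Nat.card {x : Ω // t • x = x}) ∧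
      (∀ s t : G, _root_.orderOf s = 2 → _root_.orderOf t = 2 → IsConj s t) ∧
      (∃ (t : G) (K : Type) (_ : Field K) (_ : Fintype K), _root_.orderOf t = 2 ∧ Odd (Fintype.card K) ∧
        Nonempty (↥(Subgroup.centralizer ({t} : Set G)) ≃*
          Matrix.ProjectiveSpecialLinearGroup (Fin 2) K × Multiplicative (ZMod 2)))) := by
  rcases A.cases h with h | h | h | ⟨K, iK, iK', m, hm, hK, ⟨e⟩, hn⟩
  · exact Or.inl h
  · exact Or.inr (Or.inl h)
  · exact Or.inr (Or.inr (Or.inl h))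
  · refine Or.inr (Or.inr (Or.inr ?_))
    have F := (TwoRee.facts hm hK).congr e
    rw [hK] at hn
    refine ⟨TwoRee.ree_type A hK hm F hn, F.conj, ?_⟩
    obtain ⟨t, ht, hC⟩ := F.cent
    refine ⟨t, K, iK, iK', ht, ?_, hC⟩
    rw [hK]
    exact Odd.pow (by decide)

end Cfsg.Agent.H968.TwoCyc
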