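import Cfsg.Agent.H729.M22Deg

/-!
# Elements of order 3, 7, 11 of `M22` (helper968)

* `cent_s` : `|C(s)| = 36` for the element `s` of order 3; `isConj_s` : the elements of order 3 are conjugate to `s`;
* `cent_11`, `cent_7` : `|C(x)| ≤ 11`, `7` for some `x` of order 11, 7.
-/

set_option autoImplicit false

namespace Cfsg.Agent.H968.TwoM22

open Cfsg
open Cfsg.Agent.SporadicA.GolayBase Cfsg.Agent.SporadicA.GolayPerm
open Cfsg.Agent.SporadicStructure.M24El Cfsg.Agent.H729.Trans Cfsg.Agent.H729.MData Cfsg.Agent.H729.Count
open Cfsg.Agent.H729.M24Deg Cfsg.Agent.H729.M22Deg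

def cs : ℕ := 984267691124080681269309148149324128

def ct : ℕ := 972428136850953591017603080651919936

def cg : ℕ := 983988803548626951168661673454195168

def wds : List (ℕ × ℕ) := [(1, 0), (11, 0), (5, 0), (3, 0), (8, 0), (4, 0), (5, 1), (2, 0), (6, 0), (8, 2), (7, 0), (11, 1), (3, 2), (9, 0), (4, 1), (4, 2), (3, 1), (11, 2), (6, 1), (8, 1), (5, 2), (6, 2), (10, 0), (0, 0)]

def sts : List (ℕ × List ℕ × List (List (ℕ × ℕ))) := [(23, [23], []),
  (0, [0], []),
  (7, List.range 24, []),
  (3, List.range 24, []),
  (5, List.range 24, [[(1, 0), (3, 0), (4, 0), (2, 0), (3, 2), (4, 1), (4, 2), (3, 1)]]),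
  (2, List.range 24, [[(5, 0), (4, 0), (5, 1), (2, 0), (4, 1), (4, 2), (5, 2), (0, 0)]]),
  (8, List.range 24, [[(1, 0), (5, 0), (4, 0), (4, 2), (3, 1), (6, 1), (6, 2), (0, 0)], [(1, 0), (3, 0), (6, 0), (4, 1), (4, 2), (6, 1), (5, 2), (0, 0)]]),
  (10, List.range 24, [[(1, 0), (5, 0), (3, 0), (5, 1), (7, 0), (4, 1), (4, 2), (6, 2)]]),
  (4, List.range 24, [[(3, 0), (8, 0), (5, 1), (4, 1), (4, 2), (3, 1), (8, 1), (5, 2)], [(5, 0), (8, 0), (8, 2), (4, 1), (4, 2), (6, 1), (5, 2), (6, 2)]]),
  (13, List.range 24, [[(1, 0), (3, 0), (9, 0), (4, 1), (3, 1), (8, 1), (6, 2), (0, 0)]]),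
  (22, List.range 24, [[(1, 0), (8, 0), (9, 0), (4, 1), (6, 1), (8, 1), (5, 2), (10, 0)]]),
  (1, List.range 24, [[(1, 0), (11, 0), (9, 0), (4, 2), (11, 2), (6, 1), (8, 1), (0, 0)], [(1, 0), (5, 0), (9, 0), (4, 1), (4, 2), (3, 1), (11, 2), (5, 2)], [(11, 1), (9, 0), (4, 2), (3, 1), (11, 2), (6, 2), (10, 0), (0, 0)]])]

/-- the centralizer of `cs` in `M22` -/
def cl : List ℕ := [984818244535754528103549039458486304, 972428136850953591017603080651919936, 968812431334721587366713098027243808, 972625665527075763400877049988389120, 968430135047221004622639774271146592, 984678196131231980007365488512750112, 969061298980935713370433084902101120, 984267691124080681269309148149324128, 973053716614814778424795538969332384, 983988803548626951168661673454195168, 965242968333093427935199789302520352, 972486218560885713323351588958472320, 964656963016672159784897857778485600, 972873722636580729978305305812291872, 984633158402703417870367824932116928, 972828709329895782758819243924920928, 984411981005018594120186515082971296, 964842449154243639555947349695549472, 964801490171992510958394642598580832,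 984551438784887737970050799718472352, 968754537289126987927570659913337280, 984533878203455561358806444435442240, 969142024033664996866586784854069408, 965324154823752615884970352955496576, 968529002288703143177725089459739104, 965225226480830843278151576739907872, 984151456755954578987986506574483712, 968939715633046940111799167284793696, 965184705072396111903715095795042560, 972990338924969181638054024498485408, 972608158308019924163381676689721824, 968569455798550987411846810374117408, 964923516922933755554967358935552672, 964512461032993879761172979873487424, 973117512114073773878327377753821632, 968997524100881296984783550615652896]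

/-- conjugators from `cs` to `cs ^ i ct ^ j` -/
def cw : List (ℕ × ℕ × ℕ) := [(0, 1, 971668192625999093781143289576363072), (0, 2, 965177848002552777638536868916443168), (1, 0, 984818244535754528103549039458486304), (1, 1, 965256498010786523256045280493218368), (1, 2, 975761825047380217711495994090261760), (2, 0, 973134850856831169667638738528868960), (2, 1, 974463628840188500499456589623804256), (2, 2, 963958993208603177230769057630967904)]

theorem pre3 : pre 3 cs wds sts = true := by decide +kernel
theorem len3 : (tl 3 cs cs wds sts).length = 36 := by decide +kernel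
theorem len11 : (tl 11 cM11 cM11 wdM11 stM11).length = 11 := by decide +kernel
theorem len7 : (tl 7 cM7 cM7 wdM7 stM7).length = 7 := by decide +kernel

theorem cl_ok : (cl.all fun P => ok P && (Nat.beq (papp P 23) 23 && (Nat.beq (papp P 0) 0 &&
    (Nat.beq (pcomp P cs) (pcomp cs P) && Nat.beq (pcomp P idP) P)))) = true := by decide +kernel
theorem cl_nodup : cl.Nodup := by decide +kernel
theorem cl_length : cl.length = 36 := by decide +kernel

theorem ok_s : ok cs = true := ok_of_pre pre3
theorem ok_t : ok ct = true := by decide +kernel
theorem ok_g : ok cg = true := by decide +kernel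

theorem os : orderOf (el cs) = 3 :=
  orderOf_el p3 ok_s (by decide +kernel) 1 (by norm_num) (by decide +kernel)
theorem ot : orderOf (el ct) = 3 :=
  orderOf_el p3 ok_t (by decide +kernel) 2 (by norm_num) (by decide +kernel)

theorem cw_ok : (cw.all fun w => ok w.2.2 && (Nat.beq (papp w.2.2 23) 23 && (Nat.beq (papp w.2.2 0) 0 &&
    Nat.beq (pcomp w.2.2 cs) (pcomp (pcomp (ppow cs w.1) (ppow ct w.2.1)) w.2.2)))) = true := by decide +kernel

theorem exists_cw : ((List.range 3).all fun i => (List.range 3).all fun j =>
    (Nat.beq i 0 && Nat.beq j 0) || cw.any fun w => Nat.beq w.1 i && Nat.beq w.2.1 j) = true := by decide +kernel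

/-- the elements `cs ^ i ct ^ j` are distinct -/
theorem dist : ((List.range 3).all fun i => (List.range 3).all fun j =>
    (Nat.beq i 0 && Nat.beq j 0) || !(Nat.beq (papp (pcomp (ppow cs i) (ppow ct j)) 1) 1) ||
      !(Nat.beq (papp (pcomp (ppow cs i) (ppow ct j)) 2) 2) ||
      !(Nat.beq (papp (pcomp (ppow cs i) (ppow ct j)) 3) 3)) = true := by decide +kernel

theorem comm_st : Nat.beq (pcomp cs ct) (pcomp ct cs) = true := by decide +kernel
theorem comm_sg : Nat.beq (pcomp cg cs) (pcomp cs cg) = true := by decide +kernel

theorem not_norm : ((List.range 3).all fun i => (List.range 3).all fun j =>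
    !(Nat.beq (pcomp cg ct) (pcomp (pcomp (ppow cs i) (ppow ct j)) cg))) = true := by decide +kernel

end Cfsg.Agent.H968.TwoM22
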