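import Cfsg.Agent.H968.TwoM22Fact

/-!
# `M22` has no two-transitive action of degree 56 or 385 (helper968)
-/

set_option autoImplicit false

namespace Cfsg.Agent.H968.TwoM22

open Cfsg Subgroup MulAction
open Cfsg.Agent.H968.TwoTool

/-- the elements of order 3 of a group of order 3 or 6 -/
theorem card_three {H : Type*} [Group H] [Finite H] (h : Nat.card H = 3 ∨ Nat.card H = 6) :
    Nat.card {y : H // orderOf y = 3} = 2 := by
  have hp : Fact (Nat.Prime 3) := ⟨Nat.prime_three⟩
  have h3 : 3 ∣ Nat.card H := by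
    rcases h with h | h
    · rw [h]
    · rw [h]; norm_num
  obtain ⟨x, hx⟩ := exists_prime_orderOf_dvd_card' 3 h3
  have hP : Nat.card (zpowers x) = 3 := by rw [Nat.card_zpowers, hx]
  have hidx : (zpowers x).index = 1 ∨ (zpowers x).index = 2 := by
    have h1 := Subgroup.card_mul_index (zpowers x)
    rw [hP] at h1
    rcases h with h | h <;> rw [h] at h1 <;> omega
  have hmem : ∀ y : H, orderOf y = 3 → y ∈ zpowers x := by
    intro y hy
    rcases hidx with h1 | h1
    · rw [Subgroup.index_eq_one.1 h1]; trivial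
    · have h2 := Subgroup.sq_mem_of_index_two h1 y
      have h4 : y = (y ^ 2) ^ 2 := by
        have h5 : y ^ 3 = 1 := by rw [← hy]; exact pow_orderOf_eq_one y
        calc y = y ^ 3 * y := by rw [h5, one_mul]
          _ = (y ^ 2) ^ 2 := by group
      rw [h4]
      exact Subgroup.pow_mem _ h2 2
  have hord : ∀ y ∈ zpowers x, y ≠ 1 → orderOf y = 3 := by
    intro y hy h1
    have h2 : orderOf (⟨y, hy⟩ : zpowers x) ∣ 3 := by rw [← hP]; exact orderOf_dvd_natCard _
    rw [Subgroup.orderOf_mk] at h2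
    rcases (Nat.dvd_prime Nat.prime_three).1 h2 with h3 | h3
    · exact absurd (orderOf_eq_one_iff.1 h3) h1
    · exact h3
  have e : Nat.card {y : H // orderOf y = 3} = Nat.card {y : zpowers x // y ≠ 1} := by
    refine Nat.card_congr
      { toFun := fun y => ⟨⟨y.1, hmem y.1 y.2⟩, ?_⟩
        invFun := fun y => ⟨y.1.1, ?_⟩
        left_inv := fun y => rfl
        right_inv := fun y => rfl }
    · intro h1
      have h2 : y.1 = 1 := congrArg Subtype.val h1
      have h3 := y.2
      rw [h2, orderOf_one] at h3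
      norm_num at h3
    · exact hord y.1.1 y.1.2 fun h1 => y.2 (Subtype.ext h1)
  classical
  have : Fintype (zpowers x) := Fintype.ofFinite _
  rw [e, Nat.card_eq_fintype_card, Fintype.card_subtype_compl]
  have h4 : Fintype.card (zpowers x) = 3 := by rw [← Nat.card_eq_fintype_card, hP]
  rw [h4]
  simp

variable {T : Type*} [Group T] {Ω : Type*} [MulAction T Ω]

/-- the conjugates of an element of order 3 fixing two points -/
theorem card_conj_eq {s : T} (hs : orderOf s = 3) (hc : ∀ x : T, orderOf x = 3 → IsConj s x) (a b : Ω) :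
    Nat.card {y : T // IsConj s y ∧ (y • a = a ∧ y • b = b)} =
      Nat.card {y : ↥(stabilizer T a ⊓ stabilizer T b) // orderOf y = 3} := by
  refine Nat.card_congr
    { toFun := fun y => ⟨⟨y.1, Subgroup.mem_inf.2 ⟨mem_stabilizer_iff.2 y.2.2.1, mem_stabilizer_iff.2 y.2.2.2⟩⟩, ?_⟩
      invFun := fun y => ⟨y.1.1, hc _ ?_, y.1.2.1, y.1.2.2⟩
      left_inv := fun y => rfl
      right_inv := fun y => rfl }
  · rw [Subgroup.orderOf_mk, ← hs]
    obtain ⟨c, hc⟩ := isConj_iff.1 y.2.1
    rw [← hc]
    exact orderOf_injective (MulAut.conj c).toMonoidHom (MulAut.conj c).injective s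
  · exact (Subgroup.orderOf_coe y.1).trans y.2

theorem sq_sub {f : ℕ} : f * f - f ≠ 24 := by
  intro h
  rcases Nat.lt_or_ge f 6 with h1 | h1
  · interval_cases f <;> simp at h
  · have h2 : 6 * f ≤ f * f := Nat.mul_le_mul_right f h1
    omega

theorem no385 [Finite T] [Finite Ω] (H : Three T) (hn : Nat.card Ω = 385)
    (h3 : ∀ a b : Ω, a ≠ b → Nat.card ↥(stabilizer T a ⊓ stabilizer T b) = 3 ∨
      Nat.card ↥(stabilizer T a ⊓ stabilizer T b) = 6) : False := by
  obtain ⟨s, t, g, hs, -, -, -, hC, hc, -⟩ := H.three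
  have h := count_eq (Ω := Ω) s (m := 2) fun a b hab => by
    rw [card_conj_eq hs hc, card_three (h3 a b hab)]
  rw [H.card, hn, hC] at h
  exact sq_sub (f := Nat.card (fixedBy Ω s)) (by omega)

theorem fact144 : 3 ^ (144 : ℕ).factorization 3 = 9 := by
  have h : (144 : ℕ).factorization 3 = 2 := by
    rw [show (144 : ℕ) = 3 ^ 2 * 16 by norm_num, Nat.factorization_mul (by norm_num) (by norm_num),
      Finsupp.add_apply, Nat.Prime.factorization_pow Nat.prime_three, Finsupp.single_eq_same,
      Nat.factorization_eq_zero_of_not_dvd (by norm_num)]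
  rw [h]; norm_num

theorem no56 [Finite T] [Finite Ω] (H : Three T) (hn : Nat.card Ω = 56)
    (h144 : ∀ a b : Ω, a ≠ b → Nat.card ↥(stabilizer T a ⊓ stabilizer T b) = 144) : False := by
  classical
  have hp : Fact (Nat.Prime 3) := ⟨Nat.prime_three⟩
  have : Fintype T := Fintype.ofFinite T
  have : Fintype Ω := Fintype.ofFinite Ω
  obtain ⟨s, t, g, hs, ht, hst, hne, hC, hc, hgs, hgt⟩ := H.three
  have hs3 : s ^ 3 = 1 := by rw [← hs]; exact pow_orderOf_eq_one s
  have ht3 : t ^ 3 = 1 := by rw [← ht]; exact pow_orderOf_eq_one t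
  obtain ⟨E, hE9, hE⟩ := exists_E hs3 ht3 hst hne
  have h27 : ¬ 27 ∣ Nat.card T := by rw [H.card]; norm_num
  have hEp : IsPGroup 3 E := IsPGroup.of_card (n := 2) (by rw [hE9]; norm_num)
  -- the elements of `E`
  have hord : ∀ x ∈ E, x ≠ 1 → orderOf x = 3 := by
    intro x hx h1
    obtain ⟨i, hi, j, hj, rfl⟩ := (hE x).1 hx
    refine orderOf_eq_prime ?_ h1
    have hcomm : Commute (s ^ i) (t ^ j) := (show Commute s t from hst).pow_pow i j
    rw [hcomm.mul_pow, ← pow_mul, ← pow_mul, mul_comm i, mul_comm j, pow_mul, pow_mul, hs3, ht3, one_pow, one_pow,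
      one_mul]
  have hsE : s ∈ E := (hE s).2 ⟨1, by norm_num, 0, by norm_num, by rw [pow_one, pow_zero, mul_one]⟩
  have htE : t ∈ E := (hE t).2 ⟨0, by norm_num, 1, by norm_num, by rw [pow_one, pow_zero, one_mul]⟩
  -- fixed points of the elements of order 3
  have hfix : ∀ x : T, orderOf x = 3 → Nat.card (fixedBy Ω x) = Nat.card (fixedBy Ω s) := by
    intro x hx
    obtain ⟨c, rfl⟩ := isConj_iff.1 (hc x hx)
    exact card_fixedBy_conj s c
  set f := Nat.card (fixedBy Ω s) with hf
  -- Burnside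
  have hB : 9 ∣ 56 + 8 * f := by
    have h1 := MulAction.sum_card_fixedBy_eq_card_orbits_mul_card_group E Ω
    have h2 : ∀ x : E, Fintype.card (fixedBy Ω x) = if x = 1 then 56 else f := by
      intro x
      split_ifs with hx
      · rw [hx, ← Nat.card_eq_fintype_card]
        rw [← hn]
        refine Nat.card_congr (Equiv.subtypeUnivEquiv fun a => ?_)
        rw [mem_fixedBy, one_smul]
      · rw [← Nat.card_eq_fintype_card]
        exact hfix x (hord x x.2 fun h => hx (Subtype.ext h))
    rw [Finset.sum_congr rfl fun x _ => h2 x, Finset.sum_ite, Finset.sum_const, Finset.sum_const] at h1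
    have h3 : (Finset.univ.filter fun x : E => x = 1).card = 1 := by
      rw [Finset.card_eq_one]
      exact ⟨1, by ext x; simp⟩
    have h4 : Fintype.card E = 9 := by rw [← Nat.card_eq_fintype_card, hE9]
    have h5 : (Finset.univ.filter fun x : E => ¬ x = 1).card = 8 := by
      have h6 := Finset.card_filter_add_card_filter_not (s := (Finset.univ : Finset E)) (fun x => x = 1)
      rw [h3, Finset.card_univ, h4] at h6
      omega
    rw [h3, h5, h4, smul_eq_mul, smul_eq_mul, one_mul] at h1
    exact ⟨_, by rw [h1, mul_comm]⟩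
  -- bound for `f`
  have hf6 : f ≤ 6 := by
    have h := count_le (Ω := Ω) s (m := 144) fun a b hab => by
      rw [card_conj_eq hs hc, ← h144 a b hab]
      exact Nat.card_le_card_of_injective _ Subtype.val_injective
    rw [H.card, hn, hC, ← hf] at h
    by_contra hcon
    push Not at hcon
    have h2 : 7 * f ≤ f * f := Nat.mul_le_mul_right f hcon
    omega
  have hf2 : f = 2 := by
    interval_cases f <;> omega
  -- the number of the elements of order 3 in the stabiliser of two points
  have hk8 : ∀ a b : Ω, a ≠ b → 8 ≤ Nat.card {y : T // IsConj s y ∧ (y • a = a ∧ y • b = b)} := by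
    intro a b hab
    obtain ⟨P⟩ : Nonempty (Sylow 3 ↥(stabilizer T a ⊓ stabilizer T b)) := inferInstance
    have hP9 : Nat.card (P : Subgroup ↥(stabilizer T a ⊓ stabilizer T b)) = 9 := by
      rw [P.card_eq_multiplicity, h144 a b hab, fact144]
    have hPT : IsPGroup 3 ((P : Subgroup ↥(stabilizer T a ⊓ stabilizer T b)).map (Subgroup.subtype _)) :=
      P.isPGroup'.map _
    obtain ⟨c, hcE⟩ := conj_nine h27 hE9 hPT
    have h1 : Nat.card {y : (P : Subgroup ↥(stabilizer T a ⊓ stabilizer T b)) // y ≠ 1} = 8 := by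
      rw [Nat.card_eq_fintype_card, Fintype.card_subtype_compl, ← Nat.card_eq_fintype_card, hP9]
      simp
    rw [← h1]
    refine Nat.card_le_card_of_injective (fun y => ⟨((y.1 : ↥(stabilizer T a ⊓ stabilizer T b)) : T), ?_,
      y.1.1.2.1, y.1.1.2.2⟩) ?_
    · have h2 := hcE ((y.1 : ↥(stabilizer T a ⊓ stabilizer T b)) : T) ⟨_, y.1.2, rfl⟩
      have h3 : orderOf (c * ((y.1 : ↥(stabilizer T a ⊓ stabilizer T b)) : T) * c⁻¹) = 3 := by
        refine hord _ h2 fun h4 => y.2 ?_
        apply Subtype.ext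
        apply Subtype.ext
        have h5 : ((y.1 : ↥(stabilizer T a ⊓ stabilizer T b)) : T) =
            c⁻¹ * (c * ((y.1 : ↥(stabilizer T a ⊓ stabilizer T b)) : T) * c⁻¹) * c := by group
        change ((y.1 : ↥(stabilizer T a ⊓ stabilizer T b)) : T) = 1
        rw [h5, h4, mul_one, inv_mul_cancel]
      exact (hc _ h3).trans (isConj_iff.2 ⟨c, rfl⟩).symm
    · intro y z hyz
      have h2 := congrArg Subtype.val hyz
      exact Subtype.ext (Subtype.ext (Subtype.ext h2))
  have hk : ∀ a b : Ω, a ≠ b → Nat.card {y : T // IsConj s y ∧ (y • a = a ∧ y • b = b)} = 8 := by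
    have h1 := count (Ω := Ω) s
    rw [H.card, hC, ← hf, hf2] at h1
    have h2 : ∑ q ∈ (Finset.univ : Finset Ω).offDiag,
        (Nat.card {y : T // IsConj s y ∧ (y • q.1 = q.1 ∧ y • q.2 = q.2)} - 8) = 0 := by
      rw [Finset.sum_tsub_distrib _ fun q hq => by
        rw [Finset.mem_offDiag] at hq
        exact hk8 q.1 q.2 hq.2.2]
      rw [← Finset.sum_mul] at h1
      rw [Finset.sum_const, Finset.offDiag_card, Finset.card_univ, ← Nat.card_eq_fintype_card (α := Ω), hn, smul_eq_mul]
      omega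
    intro a b hab
    rw [Finset.sum_eq_zero_iff] at h2
    have h3 := h2 (a, b) (Finset.mem_offDiag.2 ⟨Finset.mem_univ _, Finset.mem_univ _, hab⟩)
    have h4 := hk8 a b hab
    simp only at h3
    omega
  -- two fixed points of `E`
  have hFix : ∃ a b : Ω, a ≠ b ∧ (∀ x ∈ E, x • a = a) ∧ ∀ x ∈ E, x • b = b := by
    have h1 := hEp.card_modEq_card_fixedPoints Ω
    rw [hn] at h1
    have h2 : 1 < Nat.card (fixedPoints E Ω) := by
      by_contra hcon
      have h3 : Nat.card (fixedPoints E Ω) = 0 ∨ Nat.card (fixedPoints E Ω) = 1 := by omega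
      rcases h3 with h3 | h3 <;> rw [h3] at h1 <;> exact absurd h1 (by decide)
    obtain ⟨a, b, hab⟩ := Finite.one_lt_card_iff_nontrivial.1 h2
    exact ⟨a, b, fun h => hab (Subtype.ext h), fun x hx => a.2 ⟨x, hx⟩, fun x hx => b.2 ⟨x, hx⟩⟩
  obtain ⟨a, b, hab, ha, hb⟩ := hFix
  have hFs : ∀ c : Ω, s • c = c → c = a ∨ c = b := by
    intro c hc
    by_contra hcon
    push Not at hcon
    have h1 : ({a, b, c} : Finset Ω).card = 3 := by
      rw [Finset.card_insert_of_notMem, Finset.card_pair hcon.2.symm]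
      simp only [Finset.mem_insert, Finset.mem_singleton, not_or]
      exact ⟨hab, hcon.1.symm⟩
    have h2 : ({a, b, c} : Finset Ω) ⊆ Finset.univ.filter fun x => s • x = x := by
      intro x hx
      rw [Finset.mem_filter]
      refine ⟨Finset.mem_univ _, ?_⟩
      simp only [Finset.mem_insert, Finset.mem_singleton] at hx
      rcases hx with rfl | rfl | rfl
      · exact ha s hsE
      · exact hb s hsE
      · exact hc
    have h3 := Finset.card_le_card h2
    have h4 : (Finset.univ.filter fun x : Ω => s • x = x).card = f := by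
      rw [hf, Nat.card_eq_fintype_card, ← Fintype.card_subtype]
      rfl
    omega
  have hgi : g⁻¹ * s = s * g⁻¹ := by
    rw [inv_mul_eq_iff_eq_mul, ← mul_assoc, hgs, mul_inv_cancel_right]
  have hga : g⁻¹ • a = a ∨ g⁻¹ • a = b := hFs _ (by rw [← mul_smul, ← hgi, mul_smul, ha s hsE])
  have hgb : g⁻¹ • b = a ∨ g⁻¹ • b = b := hFs _ (by rw [← mul_smul, ← hgi, mul_smul, hb s hsE])
  have hta : (g * t * g⁻¹) • a = a := by
    rw [mul_smul, mul_smul]
    rcases hga with h | h
    · rw [h, ha t htE, ← h, smul_inv_smul, h]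
    · rw [h, hb t htE, ← h, smul_inv_smul]
  have htb : (g * t * g⁻¹) • b = b := by
    rw [mul_smul, mul_smul]
    rcases hgb with h | h
    · rw [h, ha t htE, ← h, smul_inv_smul]
    · rw [h, hb t htE, ← h, smul_inv_smul, h]
  have htc : IsConj s (g * t * g⁻¹) := (hc t ht).trans (isConj_iff.2 ⟨g, rfl⟩)
  -- the elements of order 3 fixing `a`, `b` are in `E`
  have hsub : (Finset.univ.filter fun y : T => y ∈ E ∧ y ≠ 1) ⊆
      Finset.univ.filter fun y : T => IsConj s y ∧ (y • a = a ∧ y • b = b) := by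
    intro y hy
    rw [Finset.mem_filter] at hy ⊢
    exact ⟨Finset.mem_univ _, hc y (hord y hy.2.1 hy.2.2), ha y hy.2.1, hb y hy.2.1⟩
  have hcard1 : (Finset.univ.filter fun y : T => y ∈ E ∧ y ≠ 1).card = 8 := by
    rw [← Fintype.card_subtype, ← Nat.card_eq_fintype_card]
    have h1 : Nat.card {y : T // y ∈ E ∧ y ≠ 1} = Nat.card {y : E // y ≠ 1} :=
      Nat.card_congr
        { toFun := fun y => ⟨⟨y.1, y.2.1⟩, fun h => y.2.2 (congrArg Subtype.val h)⟩
          invFun := fun y => ⟨y.1.1, y.1.2, fun h => y.2 (Subtype.ext h)⟩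
          left_inv := fun y => rfl
          right_inv := fun y => rfl }
    rw [h1, Nat.card_eq_fintype_card, Fintype.card_subtype_compl, ← Nat.card_eq_fintype_card, hE9]
    simp
  have hcard2 : (Finset.univ.filter fun y : T => IsConj s y ∧ (y • a = a ∧ y • b = b)).card = 8 := by
    rw [← Fintype.card_subtype, ← Nat.card_eq_fintype_card]
    exact hk a b hab
  have heq := Finset.eq_of_subset_of_card_le hsub (by rw [hcard1, hcard2])
  have hmem : g * t * g⁻¹ ∈ Finset.univ.filter fun y : T => y ∈ E ∧ y ≠ 1 := by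
    rw [heq, Finset.mem_filter]
    exact ⟨Finset.mem_univ _, htc, hta, htb⟩
  rw [Finset.mem_filter] at hmem
  obtain ⟨i, hi, j, hj, hij⟩ := (hE _).1 hmem.2.1
  exact hgt i hi j hj (mul_inv_eq_iff_eq_mul.1 hij)

end Cfsg.Agent.H968.TwoM22
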